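import Cfsg.Agent.Walter.Big.Terminal
import Cfsg.Agent.Walter.TypeBinary
import Cfsg.Agent.BenderSE.AbelianSylow.Large

/-!
Walter's theorem, branch of large rank: the proper overgroup contains every centraliser of an involution of `S`,
so it is strongly embedded, the group is `PSL(2, 2^n)`, and its centralisers are abelian: `bigSpec`.
-/

set_option autoImplicit false
set_option linter.unusedSectionVars false
set_option linter.style.haveILetI false

namespace Cfsg.Lib.Walter.Big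

open Subgroup Cfsg.Lib.Components
open scoped commutatorElement

universe u

variable {G : Type u} [Group G] [Finite G] {S : Sylow 2 G}

/-- what the overgroup satisfies -/
structure Over (S : Sylow 2 G) (M : Subgroup G) : Prop where
  ne_top : M ≠ ⊤
  norm : normalizer ((S : Subgroup G) : Set G) ≤ M
  cent : ∀ {t L}, t ∈ S → orderOf t = 2 → IsComp t L → centralizer (ZL (S : Subgroup G) L : Set G) ≤ M
  delta : ∀ U : Subgroup G, U ≤ (S : Subgroup G) → 8 ≤ Nat.card U → Cfsg.signalizerDelta 2 U ≤ M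

theorem exists_over (hm : Min G) (hL : Local S) (h64 : 64 ≤ Nat.card ↥(S : Subgroup G))
    (hbig : ∀ {t L}, t ∈ S → orderOf t = 2 → IsComp t L →
      4 * Nat.card ↥((S : Subgroup G) ⊓ L) ^ 2 ≤ Nat.card ↥(S : Subgroup G))
    (hex : ∃ t L, t ∈ S ∧ orderOf t = 2 ∧ IsComp t L) : ∃ M, Over S M := by
  haveI := hm.simple
  haveI : Fact (Nat.Prime 2) := ⟨Nat.prime_two⟩
  have hdW : ∀ U : Subgroup G, U ≤ (S : Subgroup G) → 8 ≤ Nat.card U →
      Cfsg.signalizerDelta 2 U ≤ W3 (S : Subgroup G) := fun U hU h8 =>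
    le_iSup (fun B : {B : Subgroup G // B ≤ (S : Subgroup G) ∧ Cfsg.IsElementaryAbelian 2 B ∧
      2 ^ 3 ≤ Nat.card ↥B} => Cfsg.signalizerDelta 2 (B : Subgroup G)) ⟨U, hU, elemAb hL hU, by simpa using h8⟩
  by_cases hW : W3 (S : Subgroup G) = ⊥
  · have hΔ : DeltaTrivial S := fun U hU h8 => eq_bot_iff.2 (hW ▸ hdW U hU h8)
    obtain ⟨M, h1, h2, h3⟩ := exists_overgroup hL hΔ hm hbig hex
    exact ⟨M, h1, h2, h3, fun U hU h8 => (hΔ U hU h8).le.trans bot_le⟩
  refine ⟨normalizer (W3 (S : Subgroup G) : Set G), fun h => ?_, W3_normalized hL h64,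
    fun {t L} htS ht hc => ?_, fun U hU h8 => (hdW U hU h8).trans le_normalizer⟩
  · rcases (normalizer_eq_top_iff.1 h).eq_bot_or_eq_top with h' | h'
    · exact hW h'
    have ho := odd_W3 hL h64
    rw [h', card_top] at ho
    have h2 : 2 ∣ Nat.card ↥(S : Subgroup G) := by
      obtain ⟨n, hn⟩ := IsPGroup.iff_card.1 S.2
      rw [hn]
      exact dvd_pow_self 2 (fun e => by rw [hn, e, pow_zero] at h64; omega)
    exact Nat.not_even_iff_odd.2 ho (even_iff_two_dvd.2 (h2.trans (card_subgroup_dvd_card _)))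
  · refine cent_le_W3 hL h64 (ZL_le L) ?_
    have h1 := hbig htS ht hc
    have h2 := card_split hL htS ht hc
    have h3 := four_le hL htS ht hc
    nlinarith

theorem core_le (hL : Local S) (h64 : 64 ≤ Nat.card ↥(S : Subgroup G)) {M : Subgroup G} (hM : Over S M)
    {a : G} (haS : a ∈ S) (ha : orderOf a = 2) : Oc a ≤ M := by
  haveI : Fact (Nat.Prime 2) := ⟨Nat.prime_two⟩
  refine le_of_pieces hL (by omega) (odd_core a) (fun s hs => ?_)
    (inf_le_right.trans ((centralizer_le_normalizer _).trans hM.norm)) ?_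
  · rw [mem_normalizer_iff]
    intro x
    exact mem_normalizer_iff.1 (PTerminal.le_normalizer_core (p := 2) _ (S_le_cent hL haS hs)) x
  intro U hU hrel x hx hxU s hs hsU hsx
  have hxo : Odd (orderOf x) := (odd_core a).of_dvd_nat (Subgroup.orderOf_dvd_natCard _ hx)
  have hxa : x ∈ centralizer ({a} : Set G) := centralizerPPrimeCore_le_centralizer a hx
  by_cases haU : a ∈ U
  swap
  · have h := eq_one_of_inverted_fixed hxo (inverts_of_not_mem hL hrel hxU hs hsx hsU haS haU)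
      (mem_centralizer_singleton_iff.1 hxa).symm
    rw [h]; exact one_mem M
  by_cases hbad : ∃ b L, b ∈ U ∧ b ≠ 1 ∧ IsComp b L ∧ ZL (S : Subgroup G) L ≤ U
  · obtain ⟨b, L, hb, hb1, hc, hZU⟩ := hbad
    exact hM.cent (hU hb) (ord_two hL (hU hb) hb1) hc (centralizer_le hZU hxU)
  refine hM.delta U hU ?_ (mem_signalizerDelta.2 fun b hb hb1 => ?_)
  · have h := Cfsg.Lib.KBal.card_mul_relIndex' hU
    have : Nat.card U * U.relIndex (S : Subgroup G) ≤ Nat.card U * 2 := Nat.mul_le_mul_left _ hrel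
    omega
  · refine (bad_comp hL hU hrel hxo hxU hs hsx hsU (Y := ({a} : Set G)) ⟨a, rfl, haS, ne_one_of_ord ha⟩
      (fun y hy _ _ => by rw [Set.mem_singleton_iff.1 hy]; exact hx) hb hb1).resolve_right ?_
    rintro ⟨L, hc, -, -, hZU⟩
    exact hbad ⟨b, L, hb, hb1, hc, hZU⟩

theorem comp_le (hL : Local S) (h64 : 64 ≤ Nat.card ↥(S : Subgroup G)) {M : Subgroup G} (hM : Over S M)
    {t : G} {L : Subgroup G} (htS : t ∈ S) (ht : orderOf t = 2) (hc : IsComp t L) : L ≤ M := by
  haveI : Fact (Nat.Prime 2) := ⟨Nat.prime_two⟩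
  have hR : ZL (S : Subgroup G) L ≤ PTerminal.Cent 2 (centralizer ({t} : Set G)) L := fun z hz =>
    (PTerminal.mem_cent hc.1).2 ⟨S_le_cent hL htS hz.1, fun j hj => by
      have h := inv_mem (hL.triv_ZL htS ht hc hz j hj)
      have e : (z * j * z⁻¹ * j⁻¹)⁻¹ = ⁅j, z⁆ := by rw [commutatorElement_def]; group
      rw [e] at h
      exact h⟩
  refine (PTerminal.cover hc (S.2.to_le (ZL_le L)) hR).trans (sup_le ?_ ?_)
  · exact inf_le_right.trans (hM.cent htS ht hc)
  · exact inf_le_right.trans (core_le hL h64 hM htS ht)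

theorem cent_le (hL : Local S) (h64 : 64 ≤ Nat.card ↥(S : Subgroup G)) {M : Subgroup G} (hM : Over S M)
    {t : G} (htS : t ∈ S) (ht : orderOf t = 2) : centralizer ({t} : Set G) ≤ M :=
  (hL.generated htS ht).trans (sup_le (sup_le (core_le hL h64 hM htS ht)
    (iSup_le fun L => comp_le hL h64 hM htS ht L.2)) (inf_le_left.trans hM.norm))

end Cfsg.Lib.Walter.Big

namespace Cfsg.Lib.Walter

open Subgroup Big

universe u

variable {G : Type u} [Group G] [Finite G]

/-- **P4**: the branch of large rank does not occur. -/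
theorem bigSpec : BigSpec G := by
  intro hm S hL ⟨t₀, ht₀, hns⟩ hbig
  haveI := hm.simple
  haveI : Fact (Nat.Prime 2) := ⟨Nat.prime_two⟩
  obtain ⟨g, hgS⟩ : ∃ g : G, g * t₀ * g⁻¹ ∈ S := by
    obtain ⟨R, hR⟩ := (IsPGroup.of_card (n := 1)
      (by rw [pow_one, Nat.card_zpowers, ht₀]) : IsPGroup 2 (zpowers t₀)).exists_le_sylow
    obtain ⟨g, hg⟩ := MulAction.exists_smul_eq G R S
    exact ⟨g, by rw [← hg]; exact ⟨t₀, hR (mem_zpowers t₀), rfl⟩⟩
  set t := g * t₀ * g⁻¹ with htdef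
  have ht : orderOf t = 2 := ((MulAut.conj g).orderOf_eq t₀).trans ht₀
  have hnt : ¬ Group.IsSolvable ↥(centralizer ({t} : Set G)) := by
    intro hs
    refine hns ?_
    let f : ↥(centralizer ({t₀} : Set G)) →* ↥(centralizer ({t} : Set G)) :=
      ((MulAut.conj g).toMonoidHom.comp (centralizer ({t₀} : Set G)).subtype).codRestrict _ fun x => by
        refine mem_centralizer_singleton_iff.2 ?_
        have hx := mem_centralizer_singleton_iff.1 x.2
        show g * x * g⁻¹ * (g * t₀ * g⁻¹) = g * t₀ * g⁻¹ * (g * x * g⁻¹)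
        rw [show g * (x : G) * g⁻¹ * (g * t₀ * g⁻¹) = g * ((x : G) * t₀) * g⁻¹ by group, hx]
        group
    haveI := hs
    exact Group.isSolvable_of_isSolvable_injective (f := f) fun a b h => Subtype.ext
      ((MulAut.conj g).injective (congrArg Subtype.val h :))
  obtain ⟨L, hc⟩ := hL.exists_comp hgS ht hnt
  have h64 : 64 ≤ Nat.card ↥(S : Subgroup G) := by
    have h1 := hbig hgS ht hc
    have h2 := four_le hL hgS ht hc
    nlinarith
  obtain ⟨M, hM⟩ := exists_over hm hL h64 hbig ⟨t, L, hgS, ht, hc⟩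
  have hev : Even (Nat.card G) := even_iff_two_dvd.2 (ht₀ ▸ orderOf_dvd_natCard t₀)
  have hab : ∀ x ∈ (S : Subgroup G), ∀ y ∈ (S : Subgroup G), x * y = y * x := fun x hx y hy => comm_S hL hx hy
  rcases BenderSE.Ring2.normal_or_embedded S (le_normalizer.trans hM.norm) hev
    (fun a haS ha => cent_le hL h64 hM haS ha)
    (fun a haS b hbS _ h hh => by
      obtain ⟨n, hn, e⟩ := BenderSE.Ring2.fusion_abelian S hab haS hbS hh
      exact ⟨n, hM.norm hn, e⟩) with h | h
  · exact hM.ne_top h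
  have h2 : BenderSE.HasCommutingInvolutions G := by
    obtain ⟨u, hu, hu1⟩ : ∃ u ∈ (S : Subgroup G) ⊓ L, u ≠ 1 :=
      (bot_or_exists_ne_one _).resolve_left (fun e => by
        have := four_le hL hgS ht hc
        rw [e, card_bot] at this
        omega)
    refine ⟨t, u, ht, ord_two hL hu.1 hu1, fun e => hu1 ?_, hab t hgS u hu.1⟩
    have h0 : t ∈ ZL (S : Subgroup G) L ⊓ ((S : Subgroup G) ⊓ L) := ⟨hL.mem_ZL hgS ht hc, e ▸ hu⟩
    rw [(hL.split hgS ht hc).1, mem_bot] at h0
    exact absurd h0 (ne_one_of_ord ht)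
  have hcore : M.normalCore = ⊥ := ((normalCore_normal M).eq_bot_or_eq_top).resolve_right
    fun e => hM.ne_top (top_le_iff.1 (e ▸ M.normalCore_le))
  obtain ⟨K, Q, F⟩ := BenderSE.exists_frame BenderSE.regProp (⟨h, hcore, h2⟩ : BenderSE.Setting M)
  have hQab : ∀ x ∈ Q, ∀ y ∈ Q, x * y = y * x := fun x hx y hy => by
    obtain ⟨R, hR⟩ := F.q2.exists_le_sylow
    exact hm.ab R x (hR hx) y (hR hy)
  obtain ⟨k, iK, iK', hn, N, hN, ⟨f⟩, hcN⟩ := BenderSE.AbSyl.socle_linear F ⟨h, hcore, h2⟩ hQab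
  have hNtop : N = ⊤ := hN.eq_bot_or_eq_top.resolve_left fun e => by
    subst e
    have h1 : t₀ ∈ centralizer ((⊥ : Subgroup G) : Set G) := mem_centralizer_iff.2 fun y hy => by
      rw [mem_bot.1 hy, one_mul, mul_one]
    rw [hcN, mem_bot] at h1
    exact ne_one_of_ord ht₀ h1
  subst hNtop
  obtain ⟨-, -, -, hcent, -⟩ := binary_facts (⟨k, iK, iK', hn, ⟨Subgroup.topEquiv.symm.trans f⟩⟩ : IsBinaryPSL G) S
  refine hnt ?_
  rw [hcent t hgS (ne_one_of_ord ht)]
  haveI : IsMulCommutative ↥(S : Subgroup G) := ⟨⟨fun a b => Subtype.ext (hab a a.2 b b.2)⟩⟩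
  exact Group.isSolvable_of_comm fun a b => Subtype.ext (hab a a.2 b b.2)

end Cfsg.Lib.Walter
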