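import Cfsg.Agent.Walter.Big.Basic
import Cfsg.Agent.Components.Misc.KBalancedFunctor
import Cfsg.Agent.Components.Signalizer.Sft.Main
import Cfsg.Agent.OddChar.PF.OddOrder

/-!
Walter's theorem, branch of large rank: the configuration is 3-balanced and the closure of the functor has odd
order; when it is nontrivial its normaliser contains every centraliser of an involution of `S`.
-/

set_option autoImplicit false
set_option linter.unusedSectionVars false
set_option linter.style.haveILetI false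

namespace Cfsg.Lib.Walter.Big

open Subgroup Cfsg.Lib.Components Cfsg.Lib.KBal

universe u

variable {G : Type u} [Group G] [Finite G] {S : Sylow 2 G}

/-- the closure over the subgroups of `A` of rank at least three -/
abbrev W3 (A : Subgroup G) : Subgroup G :=
  ⨆ B : {B : Subgroup G // B ≤ A ∧ Cfsg.IsElementaryAbelian 2 B ∧ 2 ^ 3 ≤ Nat.card ↥B},
    Cfsg.signalizerDelta 2 (B : Subgroup G)

theorem balanced (hL : Local S) : Cfsg.IsKBalancedWrt 2 3 (S : Subgroup G) := by
  haveI : Fact (Nat.Prime 2) := ⟨Nat.prime_two⟩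
  intro B hB _ hB8 a ha ha1 x hx
  have hB8' : 8 ≤ Nat.card B := by simpa using hB8
  have hmem := mem_signalizerDelta.1 hx.1
  obtain ⟨b₀, hb₀B, hb₀1⟩ := (bot_or_exists_ne_one B).resolve_left (fun e => by
    rw [e, card_bot] at hB8'; omega)
  refine hL.faith ha (ord_two hL ha ha1) (hB hb₀B) (ord_two hL (hB hb₀B) hb₀1) (hmem b₀ hb₀B hb₀1) hx.2
    fun L hc => ?_
  have hao := ord_two hL ha ha1
  by_cases h4 : Nat.card ↥((S : Subgroup G) ⊓ L) = 4
  · obtain ⟨b, hbB, hb1, hbZ⟩ : ∃ b ∈ B, b ≠ 1 ∧ b ∈ ZL (S : Subgroup G) L := by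
      by_contra hno
      push Not at hno
      set Z := ZL (S : Subgroup G) L
      have h1 : Z.subgroupOf B = ⊥ := by
        rw [eq_bot_iff]
        intro b hb
        by_contra hb1
        exact hno b b.2 (fun e => hb1 (mem_bot.2 (Subtype.ext e))) hb
      have h2 : Z.relIndex B ≤ Z.relIndex (S : Subgroup G) :=
        relIndex_le_of_le_right hB index_ne_zero_of_finite
      rw [relIndex, h1, index_bot] at h2
      have h3 := card_mul_relIndex' (A := (S : Subgroup G)) (B := Z) (ZL_le L)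
      have h5 := card_split hL ha hao hc
      rw [h4] at h5
      have h6 : Z.relIndex (S : Subgroup G) = 4 :=
        Nat.eq_of_mul_eq_mul_left Nat.card_pos (h3.trans h5)
      omega
    exact hL.bal ha hao (hB hbB) (ord_two hL (hB hbB) hb1) hc (hmem b hbB hb1) hx.2 (Or.inl hbZ)
  · exact hL.bal ha hao (hB hb₀B) (ord_two hL (hB hb₀B) hb₀1) hc (hmem b₀ hb₀B hb₀1) hx.2 (Or.inr h4)

theorem odd_core (t : G) : Odd (Nat.card (Oc t)) := by
  haveI : Fact (Nat.Prime 2) := ⟨Nat.prime_two⟩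
  exact Nat.coprime_two_right.1 (centralizerPPrimeCore_card_coprime t)

theorem odd_W3 (hL : Local S) (h64 : 64 ≤ Nat.card ↥(S : Subgroup G)) : Odd (Nat.card (W3 (S : Subgroup G))) := by
  haveI : Fact (Nat.Prime 2) := ⟨Nat.prime_two⟩
  set A := (S : Subgroup G) with hA'
  have hA := elemAb (A := A) hL le_rfl
  have hAk : 2 ^ (3 + 2) ≤ Nat.card A := le_trans (by norm_num) h64
  have hbal := balanced hL
  set θ := fun a : G => ⨆ D : {D : Subgroup G // D ≤ A ∧ Nat.card ↥D = 2 ^ 3},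
      Cfsg.signalizerDelta 2 (D : Subgroup G) ⊓ centralizer {a}
  have hbalB : ∀ B, Big 2 3 A B → ∀ a ∈ A, a ≠ 1 →
      Cfsg.signalizerDelta 2 B ⊓ centralizer {a} ≤ Oc a := fun B hB a ha ha1 =>
    hbal B hB.1 (elemAb hL hB.1) hB.2 a ha ha1
  have hLθ : ∀ a, ∀ B, Big 2 3 A B → Cfsg.signalizerDelta 2 B ⊓ centralizer {a} ≤ θ a := fun a B hB => by
    obtain ⟨D, hDB, -, hDk⟩ := exists_card_pow_le hA hB.1 hB.2
    exact (inf_le_inf_right _ (signalizerDelta_anti hDB)).trans
      (le_iSup (fun D : {D : Subgroup G // D ≤ A ∧ Nat.card ↥D = 2 ^ 3} =>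
        Cfsg.signalizerDelta 2 (D : Subgroup G) ⊓ centralizer {a}) ⟨D, hDB.trans hB.1, hDk⟩)
  have hcore : ∀ a ∈ A, a ≠ 1 → θ a ≤ Oc a := fun a ha ha1 =>
    iSup_le fun D => hbalB D ⟨D.2.1, D.2.2.ge⟩ a ha ha1
  have hsolv : ∀ a ∈ A, a ≠ 1 → Group.IsSolvable ↥(θ a) := fun a ha ha1 =>
    Cfsg.Lib.Coprime.isSolvable_of_le (hcore a ha ha1) (Cfsg.Agent.PF.isSolvable_of_odd _ (odd_core a))
  have hAC : ∀ B, Big 2 3 A B → A ≤ normalizer (Cfsg.signalizerDelta 2 B : Set G) := fun B hB a ha =>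
    delta_normalized (mem_centralizer_iff.mpr fun b hb => comm_S hL (hB.1 hb) ha)
  have hinv : ∀ a ∈ A, A ≤ normalizer (θ a : Set G) := fun a ha b hb =>
    Cfsg.Lib.Sft.mem_normalizer_iSup _ fun D => Cfsg.Lib.Coprime.le_normalizer_inf (hAC _ ⟨D.2.1, D.2.2.ge⟩)
      ((S_le_cent hL ha).trans le_normalizer) hb
  have hnp : ∀ a ∈ A, a ≠ 1 → ¬ 2 ∣ Nat.card (θ a) := fun a ha ha1 h =>
    Nat.not_even_iff_odd.2 (odd_core a) (even_iff_two_dvd.2 (h.trans (card_dvd_of_le (hcore a ha ha1))))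
  have hfun : Cfsg.IsSignalizerFunctor 2 A θ := by
    refine ⟨fun a _ _ => iSup_le fun D => inf_le_right, hnp,
      fun a ha _ b hb x hx => (mem_normalizer_iff.mp (hinv a ha hb) x).mp hx, fun a ha ha1 b hb hb1 => ?_⟩
    have hmain : ∀ B, Big 2 3 A B → θ a ⊓ centralizer (B : Set G) ≤
        Cfsg.signalizerDelta 2 B ⊓ centralizer {a} := by
      refine inf_centralizer_le hA hAk _ (θ a) rfl (hsolv a ha ha1) (hnp a ha ha1) (hinv a ha)
        (fun B => Cfsg.signalizerDelta 2 B ⊓ centralizer {a}) (fun B hB => le_inf (hLθ a B hB) ?_) ?_ ?_ ?_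
      · intro x hx
        refine mem_centralizer_iff.mpr fun c hc => ?_
        by_cases hc1 : c = 1
        · subst hc1; simp
        · exact (mem_centralizer_singleton_iff.mp (centralizerPPrimeCore_le_centralizer c
            (signalizerDelta_le hc hc1 hx.1))).symm
      · intro B hB
        refine Cfsg.Lib.Coprime.le_normalizer_inf
          (sup_le (hAC B hB) (fun x hx => delta_normalized hx.2))
          (sup_le ((S_le_cent hL ha).trans le_normalizer) ?_)
        exact (inf_le_left.trans (iSup_le fun D => inf_le_right)).trans le_normalizer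
      · intro B B' hB hB' x hx
        refine ⟨mem_signalizerDelta.mpr fun c hc hc1 => hbalB B hB c (hB'.1 hc) hc1 ⟨hx.1.1, ?_⟩, hx.1.2⟩
        exact centralizer_le (Set.singleton_subset_iff.mpr hc) hx.2
      · exact iSup_le fun D => le_iSup (fun B : {B // Big 2 3 A B} =>
          Cfsg.signalizerDelta 2 B.1 ⊓ centralizer {a}) ⟨D.1, D.2.1, D.2.2.ge⟩
    have hX : ¬ 2 ∣ Nat.card ↥(θ a ⊓ centralizer {b}) := fun h =>
      hnp a ha ha1 (h.trans (card_dvd_of_le inf_le_left))
    rw [Cfsg.Agent.S1324.result 2 A (θ a ⊓ centralizer {b}) hA (sq_le hAk) hX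
      (Cfsg.Lib.Coprime.le_normalizer_inf (hinv a ha) ((S_le_cent hL hb).trans le_normalizer))]
    refine iSup_le fun H x hx => hLθ b H ?_ ⟨(hmain H ?_ ⟨hx.1.1, hx.2⟩).1, hx.1.2⟩ <;>
      exact big_of_relIndex_le (j := 1) (le_trans (by norm_num) hAk) H.2.1 (by simpa using H.2.2)
  obtain ⟨W, hW, hWle⟩ := Cfsg.Lib.Sft.exists_member hA (le_trans (by norm_num) hAk) ⟨hfun, hsolv⟩
  have hle : W3 A ≤ W := by
    refine iSup_le fun B => ?_
    have hB : B.1 ≠ ⊥ := fun e => by
      have := B.2.2.2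
      rw [e, card_bot] at this
      omega
    rw [Cfsg.Agent.S1324.result 2 A (Cfsg.signalizerDelta 2 B.1) hA (sq_le hAk)
      ((Fact.out : Nat.Prime 2).coprime_iff_not_dvd.mp (signalizerDelta_coprime hB).symm)
      (hAC _ ⟨B.2.1, B.2.2.2⟩)]
    refine iSup_le fun H => ?_
    have hH : Big 2 3 A H.1 :=
      big_of_relIndex_le (j := 1) (le_trans (by norm_num) hAk) H.2.1 (by simpa using H.2.2)
    obtain ⟨a, ha, ha1⟩ := (bot_or_exists_ne_one H.1).resolve_left (fun e => by
      have := hH.2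
      rw [e, card_bot] at this
      omega)
    exact ((inf_le_inf_left _ (centralizer_le (Set.singleton_subset_iff.mpr ha))).trans
      (hLθ a B ⟨B.2.1, B.2.2.2⟩)).trans (hWle a (H.2.1 ha) ha1)
  exact Nat.not_even_iff_odd.1 fun h => hW.2.1 ((even_iff_two_dvd.1 h).trans (card_dvd_of_le hle))

theorem W3_eq (hL : Local S) (h64 : 64 ≤ Nat.card ↥(S : Subgroup G)) {E : Subgroup G}
    (hE : E ≤ (S : Subgroup G)) (h16 : 16 ≤ Nat.card E) : W3 (S : Subgroup G) = W3 E := by
  haveI : Fact (Nat.Prime 2) := ⟨Nat.prime_two⟩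
  obtain ⟨h1, h2⟩ := Cfsg.Lib.KBal.closure_eq 3 (by norm_num) (elemAb (A := (S : Subgroup G)) hL le_rfl)
    (le_trans (by norm_num) h64) (balanced hL)
  exact h1.symm.trans (h2 E hE (by simpa using h16))

theorem W3_normalized (hL : Local S) (h64 : 64 ≤ Nat.card ↥(S : Subgroup G)) :
    normalizer ((S : Subgroup G) : Set G) ≤ normalizer (W3 (S : Subgroup G) : Set G) := by
  haveI : Fact (Nat.Prime 2) := ⟨Nat.prime_two⟩
  intro g hg
  rw [mem_normalizer_iff_map_conj_eq]
  refine Subgroup.eq_of_le_of_card_ge ?_ (card_map_of_injective (MulAut.conj g).injective).ge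
  rw [Subgroup.map_iSup]
  refine iSup_le fun B => ?_
  rw [show ((MulAut.conj g : MulAut G) : G →* G) = (MulAut.conj g).toMonoidHom from rfl,
    signalizerDelta_map_equiv]
  refine le_iSup_of_le ⟨B.1.map (MulAut.conj g).toMonoidHom, ?_, isElementaryAbelian_map B.2.2.1 _, ?_⟩ le_rfl
  · rintro _ ⟨b, hb, rfl⟩
    exact (mem_normalizer_iff.1 hg b).1 (B.2.1 hb)
  · rw [card_map_of_injective (MulAut.conj g).injective]; exact B.2.2.2

theorem cent_le_W3 (hL : Local S) (h64 : 64 ≤ Nat.card ↥(S : Subgroup G)) {E : Subgroup G}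
    (hE : E ≤ (S : Subgroup G)) (h16 : 16 ≤ Nat.card E) :
    centralizer (E : Set G) ≤ normalizer (W3 (S : Subgroup G) : Set G) := by
  haveI : Fact (Nat.Prime 2) := ⟨Nat.prime_two⟩
  intro g hg
  rw [W3_eq hL h64 hE h16]
  exact Cfsg.Lib.Sft.mem_normalizer_iSup _ fun B => delta_normalized (centralizer_le B.2.1 hg)

end Cfsg.Lib.Walter.Big
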