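import Cfsg.Agent.Walter.Setting
import Cfsg.Agent.Components.PTerminal.Tools
import Cfsg.Agent.Components.BalanceDelta
import Cfsg.Agent.S1324
import Cfsg.Agent.FourGroupGW.Mixed.Invol

/-!
Walter's theorem, branch of large rank: basic facts on 2-components, and the bad pieces of cores.
-/

set_option autoImplicit false
set_option linter.unusedSectionVars false
set_option linter.style.haveILetI false

namespace Cfsg.Lib.Walter.Big

open Subgroup Cfsg.Lib.Components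
open scoped commutatorElement

universe u

variable {G : Type u} [Group G] [Finite G] {S : Sylow 2 G}

theorem comm_S (hL : Local S) {x y : G} (hx : x ∈ S) (hy : y ∈ S) : x * y = y * x := by
  have hinv : ∀ z ∈ S, z⁻¹ = z := fun z hz => inv_eq_of_mul_eq_one_right (hL.sq z hz)
  calc x * y = (x * y)⁻¹ := (hinv _ (mul_mem hx hy)).symm
    _ = y * x := by rw [mul_inv_rev, hinv x hx, hinv y hy]

theorem ord_two (hL : Local S) {x : G} (hx : x ∈ S) (h1 : x ≠ 1) : orderOf x = 2 :=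
  orderOf_eq_prime (by rw [pow_two, hL.sq x hx]) h1

theorem ne_one_of_ord {t : G} (ht : orderOf t = 2) : t ≠ 1 := fun e => by
  rw [e, orderOf_one] at ht; omega

theorem elemAb (hL : Local S) {A : Subgroup G} (hA : A ≤ (S : Subgroup G)) : Cfsg.IsElementaryAbelian 2 A :=
  ⟨⟨⟨fun a b => Subtype.ext (comm_S hL (hA a.2) (hA b.2))⟩⟩, fun a ha => by rw [pow_two]; exact hL.sq a (hA ha)⟩

theorem S_le_cent (hL : Local S) {t : G} (ht : t ∈ S) : (S : Subgroup G) ≤ centralizer ({t} : Set G) :=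
  fun _ hs => mem_centralizer_singleton_iff.2 (comm_S hL hs ht)

theorem S_cent_S (hL : Local S) : (S : Subgroup G) ≤ centralizer ((S : Subgroup G) : Set G) :=
  fun _ hx => mem_centralizer_iff.2 fun _ hy => comm_S hL hy hx

theorem ZL_le (L : Subgroup G) : ZL (S : Subgroup G) L ≤ (S : Subgroup G) := inf_le_left

theorem cent_singleton_of_mem {A : Subgroup G} {a x : G} (hx : x ∈ centralizer (A : Set G)) (ha : a ∈ A) :
    x ∈ centralizer ({a} : Set G) :=
  mem_centralizer_singleton_iff.2 (mem_centralizer_iff.1 hx a ha).symm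

/-- `|S| = |Z_L| |S ∩ L|` -/
theorem card_split (hL : Local S) {t : G} {L : Subgroup G} (htS : t ∈ S) (ht : orderOf t = 2) (hc : IsComp t L) :
    Nat.card ↥(S : Subgroup G) = Nat.card ↥(ZL (S : Subgroup G) L) * Nat.card ↥((S : Subgroup G) ⊓ L) := by
  obtain ⟨hd, hs⟩ := hL.split htS ht hc
  rw [← Nat.card_prod]
  refine (Nat.card_eq_of_bijective (fun q : ↥(ZL (S : Subgroup G) L) × ↥((S : Subgroup G) ⊓ L) =>
    (⟨(q.1 : G) * q.2, (S : Subgroup G).mul_mem q.1.2.1 q.2.2.1⟩ : ↥(S : Subgroup G))) ⟨?_, ?_⟩).symm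
  · rintro ⟨z, v⟩ ⟨z', v'⟩ h
    have h1 : (z : G) * v = z' * v' := congrArg Subtype.val h
    have h2 : (z' : G)⁻¹ * z = v' * (v : G)⁻¹ := by
      calc (z' : G)⁻¹ * z = (z' : G)⁻¹ * (z * v) * (v : G)⁻¹ := by group
        _ = _ := by rw [h1]; group
    have h3 : (z' : G)⁻¹ * z ∈ ZL (S : Subgroup G) L ⊓ ((S : Subgroup G) ⊓ L) :=
      ⟨(ZL (S : Subgroup G) L).mul_mem ((ZL (S : Subgroup G) L).inv_mem z'.2) z.2, h2 ▸ Subgroup.mul_mem _ v'.2 (Subgroup.inv_mem _ v.2)⟩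
    rw [hd, mem_bot] at h3
    rw [h3, eq_comm, mul_inv_eq_one] at h2
    exact Prod.ext (Subtype.ext (inv_mul_eq_one.1 h3).symm) (Subtype.ext h2.symm)
  · rintro ⟨s, hsS⟩
    have hn : ((S : Subgroup G) ⊓ L) ≤ normalizer (ZL (S : Subgroup G) L : Set G) := fun v hv =>
      centralizer_le_normalizer _ (mem_centralizer_iff.2 fun z hz => comm_S hL hz.1 hv.1)
    have hmem : s ∈ ZL (S : Subgroup G) L ⊔ ((S : Subgroup G) ⊓ L) := by rw [hs]; exact hsS
    obtain ⟨k, hk, z, hz, e⟩ := (Cfsg.Lib.Coprime.mem_sup_of_le_normalizer' hn).1 hmem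
    exact ⟨(⟨z, hz⟩, ⟨k, hk⟩), Subtype.ext ((comm_S hL hz.1 hk.1).trans e)⟩

theorem four_le (hL : Local S) {t : G} {L : Subgroup G} (htS : t ∈ S) (ht : orderOf t = 2) (hc : IsComp t L) :
    4 ≤ Nat.card ↥((S : Subgroup G) ⊓ L) := (hL.dims htS ht hc).1

/-- a nontrivial element of `S` in two components: they are equal -/
theorem comp_eq_of_mem (hL : Local S) {t : G} {L L' : Subgroup G} (htS : t ∈ S) (ht : orderOf t = 2)
    (hc : IsComp t L) (hc' : IsComp t L') {u : G} (hu : u ∈ S) (hu1 : u ≠ 1) (hu' : u ∈ L') (huL : u ∈ L) :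
    L = L' := by
  by_contra hne
  have h : u ∈ ZL (S : Subgroup G) L ⊓ ((S : Subgroup G) ⊓ L) := ⟨hL.other htS ht hc hc' hne ⟨hu, hu'⟩, hu, huL⟩
  rw [(hL.split htS ht hc).1, mem_bot] at h
  exact hu1 h

theorem comp_conj {t : G} {L : Subgroup G} (hc : IsComp t L) {g : G} (hg : g ∈ centralizer ({t} : Set G)) :
    IsComp t (L.map (MulAut.conj g).toMonoidHom) := by
  haveI : Fact (Nat.Prime 2) := ⟨Nat.prime_two⟩
  have h := PTerminal.pcompOf_conj hc g
  rwa [PTerminal.map_conj_of_mem (le_normalizer hg)] at h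

/-- an element of `C(t)` fixing a nontrivial element of every `S ∩ L'` normalises every component -/
theorem mem_normalizer_comp (hL : Local S) {t : G} {L : Subgroup G} (htS : t ∈ S) (ht : orderOf t = 2)
    (hc : IsComp t L) {g : G} (hg : g ∈ centralizer ({t} : Set G))
    (hfix : ∀ L', IsComp t L' → L' ≠ L → ∃ u ∈ (S : Subgroup G) ⊓ L', u ≠ 1 ∧ g * u = u * g) :
    g ∈ normalizer (L : Set G) := by
  rw [mem_normalizer_iff_map_conj_eq]
  set L' := L.map (MulAut.conj g).toMonoidHom with hL'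
  by_contra hne
  have hc' : IsComp t L' := comp_conj hc hg
  obtain ⟨u, hu, hu1, hgu⟩ := hfix L' hc' hne
  obtain ⟨w, hw, hwu⟩ := hu.2
  have hwu' : w = u := by
    have h1 : g * w * g⁻¹ = u := hwu
    calc w = g⁻¹ * (g * w * g⁻¹) * g := by group
      _ = g⁻¹ * (g * u) := by rw [h1, hgu]; group
      _ = u := by group
  exact hne (comp_eq_of_mem hL htS ht hc hc' hu.1 hu1 hu.2 (hwu' ▸ hw)).symm

/-- in a subgroup of index at most two of `S`, every `S ∩ L'` is met -/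
theorem meet_hyperplane (hL : Local S) {t : G} {L' : Subgroup G} (htS : t ∈ S) (ht : orderOf t = 2)
    (hc : IsComp t L') {U : Subgroup G} (hrel : U.relIndex (S : Subgroup G) ≤ 2) :
    ∃ u ∈ (S : Subgroup G) ⊓ L', u ≠ 1 ∧ u ∈ U := by
  by_contra hno
  push Not at hno
  set V := (S : Subgroup G) ⊓ L'
  have h1 : U.relIndex V ≤ 2 := by
    refine le_trans ?_ hrel
    exact Subgroup.relIndex_le_of_le_right inf_le_left index_ne_zero_of_finite
  have h2 : U.subgroupOf V = ⊥ := by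
    rw [eq_bot_iff]
    intro u hu
    by_contra hu1
    exact hno u u.2 (fun e => hu1 (mem_bot.2 (Subtype.ext e))) hu
  rw [relIndex, h2, index_bot] at h1
  have h4 : 4 ≤ Nat.card V := four_le hL htS ht hc
  omega

/-- members of the same side of a hyperplane multiply into it -/
theorem mul_mem_hyperplane (hL : Local S) {U : Subgroup G} (hrel : U.relIndex (S : Subgroup G) ≤ 2)
    {s z : G} (hs : s ∈ S) (hz : z ∈ S) (hsU : s ∉ U) (hzU : z ∉ U) : s * z ∈ U := by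
  have hidx : (U.subgroupOf (S : Subgroup G)).index = 2 := by
    have h0 : (U.subgroupOf (S : Subgroup G)).index ≠ 0 := index_ne_zero_of_finite
    have h1 : (U.subgroupOf (S : Subgroup G)).index ≠ 1 := fun h => hsU
      ((index_eq_one.1 h ▸ mem_top (⟨s, hs⟩ : ↥(S : Subgroup G))) : (⟨s, hs⟩ : ↥(S : Subgroup G)) ∈ U.subgroupOf _)
    have h2 : (U.subgroupOf (S : Subgroup G)).index ≤ 2 := hrel
    omega
  have h := (mul_mem_iff_of_index_two hidx (a := (⟨s, hs⟩ : ↥(S : Subgroup G))) (b := ⟨z, hz⟩)).2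
    (iff_of_false hsU hzU)
  exact h

theorem inverts_of_not_mem (hL : Local S) {U : Subgroup G} (hrel : U.relIndex (S : Subgroup G) ≤ 2)
    {x : G} (hxU : x ∈ centralizer (U : Set G)) {s : G} (hs : s ∈ S) (hsx : s * x * s⁻¹ = x⁻¹) (hsU : s ∉ U)
    {z : G} (hz : z ∈ S) (hzU : z ∉ U) : z * x * z⁻¹ = x⁻¹ := by
  have h1 := mem_centralizer_iff.1 hxU _ (mul_mem_hyperplane hL hrel hs hz hsU hzU)
  have hs2 : s * s = 1 := hL.sq s hs
  calc z * x * z⁻¹ = s * ((s * z) * x * (s * z)⁻¹) * s⁻¹ := by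
        rw [show s * ((s * z) * x * (s * z)⁻¹) * s⁻¹ = (s * s) * (z * x * z⁻¹) * (s * s)⁻¹ by group, hs2]; group
    _ = s * x * s⁻¹ := by rw [h1, mul_inv_cancel_right]
    _ = x⁻¹ := hsx

theorem eq_one_of_inverted_fixed {z x : G} (hx : Odd (orderOf x)) (h1 : z * x * z⁻¹ = x⁻¹) (h2 : z * x = x * z) :
    x = 1 := by
  rw [h2, mul_inv_cancel_right] at h1
  have h : x * x = 1 := by
    nth_rw 1 [h1]
    exact inv_mul_cancel x
  obtain ⟨k, hk⟩ := hx
  have h3 := pow_orderOf_eq_one x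
  rwa [hk, pow_succ, pow_mul, pow_two, h, one_pow, one_mul] at h3

/-- an element of odd order centralising a hyperplane `U` and inverted by `S` is in the core at `b ∈ U`, or some
small component of `C(b)` has `Z_L ≤ U` and avoids the involutions it comes from -/
theorem bad_comp (hL : Local S) {U : Subgroup G} (hU : U ≤ (S : Subgroup G))
    (hrel : U.relIndex (S : Subgroup G) ≤ 2) {x : G} (hxo : Odd (orderOf x)) (hxU : x ∈ centralizer (U : Set G))
    {s : G} (hs : s ∈ S) (hsx : s * x * s⁻¹ = x⁻¹) (hsU : s ∉ U) {Y : Set G} (hY : ∃ y ∈ Y, y ∈ S ∧ y ≠ 1)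
    (hxY : ∀ y ∈ Y, y ∈ S → y ≠ 1 → x ∈ Oc y) {b : G} (hb : b ∈ U) (hb1 : b ≠ 1) :
    x ∈ Oc b ∨ ∃ L, IsComp b L ∧ (∀ y ∈ Y, y ∈ S → y ≠ 1 → y ∉ ZL (S : Subgroup G) L) ∧
      Nat.card ↥((S : Subgroup G) ⊓ L) = 4 ∧ ZL (S : Subgroup G) L ≤ U := by
  haveI : Fact (Nat.Prime 2) := ⟨Nat.prime_two⟩
  have hbS := hU hb
  have hbo := ord_two hL hbS hb1
  have hxb : x ∈ centralizer ({b} : Set G) := cent_singleton_of_mem hxU hb
  obtain ⟨y₀, hy₀Y, hy₀S, hy₀1⟩ := hY
  by_cases hall : ∀ L, IsComp b L → Triv b L x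
  · exact Or.inl (hL.faith hbS hbo hy₀S (ord_two hL hy₀S hy₀1) (hxY y₀ hy₀Y hy₀S hy₀1) hxb hall)
  push Not at hall
  obtain ⟨L, hc, hnt⟩ := hall
  refine Or.inr ⟨L, hc, fun y hyY hyS hy1 hyZ => ?_, ?_, fun z hz => ?_⟩
  · exact hnt (hL.bal hbS hbo hyS (ord_two hL hyS hy1) hc (hxY y hyY hyS hy1) hxb (Or.inl hyZ))
  · by_contra h4
    exact hnt (hL.bal hbS hbo hy₀S (ord_two hL hy₀S hy₀1) hc (hxY y₀ hy₀Y hy₀S hy₀1) hxb (Or.inr h4))
  · by_contra hzU
    have hzS : z ∈ S := hz.1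
    have hxn : x ∈ normalizer (L : Set G) := mem_normalizer_comp hL hbS hbo hc hxb fun L' hc' _ => by
      obtain ⟨u, hu, hu1, huU⟩ := meet_hyperplane hL hbS hbo hc' hrel
      exact ⟨u, hu, hu1, (mem_centralizer_iff.1 hxU u huU).symm⟩
    set C := centralizer ({b} : Set G) with hC
    have hzC : z ∈ C := S_le_cent hL hbS hzS
    set π := QuotientGroup.mk' (Cfsg.pPrimeCore 2 C) with hπ
    have hker : ∀ c : C, π c = 1 ↔ (c : G) ∈ Oc b := fun c => by
      rw [hπ, QuotientGroup.mk'_apply, QuotientGroup.eq_one_iff]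
      exact ⟨fun h => ⟨c, h, rfl⟩, fun ⟨d, hd, e⟩ => Subtype.ext e ▸ hd⟩
    have hz' : ∀ l (hl : l ∈ L), Commute (π ⟨z, hzC⟩) (π ⟨l, hc.1 hl⟩) := fun l hl => by
      rw [commute_iff_eq, ← commutatorElement_eq_one_iff_mul_comm, ← map_commutatorElement, hker]
      exact hL.triv_ZL hbS hbo hc hz l hl
    have hzx : π ⟨z, hzC⟩ * π ⟨x, hxb⟩ * (π ⟨z, hzC⟩)⁻¹ = (π ⟨x, hxb⟩)⁻¹ := by
      rw [← map_inv, ← map_mul, ← map_mul, ← map_inv]
      exact congrArg π (Subtype.ext (inverts_of_not_mem hL hrel hxU hs hsx hsU hzS hzU))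
    refine hnt fun l hl => ?_
    have hl' : x⁻¹ * l * x ∈ L := (mem_normalizer_iff''.1 hxn l).1 hl
    set X := π ⟨x, hxb⟩
    set Zb := π ⟨z, hzC⟩
    set Lb := π ⟨l, hc.1 hl⟩
    have h1 : Commute Zb (X⁻¹ * Lb * X) := by
      have h := hz' _ hl'
      have e : π ⟨x⁻¹ * l * x, hc.1 hl'⟩ = X⁻¹ * Lb * X := by
        rw [← map_inv, ← map_mul, ← map_mul]
        exact congrArg π (Subtype.ext rfl)
      rwa [e] at h
    have h2 : Commute (X * X) Lb := by
      have h3 : X * Lb * X⁻¹ = X⁻¹ * Lb * X := by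
        calc X * Lb * X⁻¹ = (Zb * X * Zb⁻¹)⁻¹ * (Zb * Lb * Zb⁻¹) * (Zb * X * Zb⁻¹) := by
              rw [hzx, inv_inv, show Zb * Lb * Zb⁻¹ = Lb by rw [(hz' l hl).eq, mul_inv_cancel_right]]
          _ = Zb * (X⁻¹ * Lb * X) * Zb⁻¹ := by group
          _ = _ := by rw [h1.eq, mul_inv_cancel_right]
      calc X * X * Lb = X * (X * Lb * X⁻¹) * X := by group
        _ = X * (X⁻¹ * Lb * X) * X := by rw [h3]
        _ = Lb * (X * X) := by group
    obtain ⟨k, hk⟩ := hxo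
    have h4 : X = (X * X) ^ (k + 1) := by
      have h5 : (⟨x, hxb⟩ : C) ^ (2 * k + 1) = 1 := Subtype.ext (hk ▸ pow_orderOf_eq_one x)
      rw [← pow_two, ← pow_mul, show 2 * (k + 1) = 2 * k + 1 + 1 by omega, pow_succ _ (2 * k + 1),
        ← map_pow, h5, map_one, one_mul]
    have h6 : Commute X Lb := by rw [h4]; exact h2.pow_left _
    have h7 : π ⁅(⟨x, hxb⟩ : C), ⟨l, hc.1 hl⟩⁆ = 1 := by
      rw [map_commutatorElement, commutatorElement_eq_one_iff_mul_comm]; exact h6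
    exact (hker _).1 h7

/-- an odd subgroup normalised by `S` is in `M` when the centraliser of `S` and the inverted pieces are -/
theorem le_of_pieces (hL : Local S) (h4 : 4 ≤ Nat.card ↥(S : Subgroup G)) {R M : Subgroup G}
    (hR : Odd (Nat.card R)) (hn : (S : Subgroup G) ≤ normalizer (R : Set G))
    (hCS : R ⊓ centralizer ((S : Subgroup G) : Set G) ≤ M)
    (hp : ∀ U : Subgroup G, U ≤ (S : Subgroup G) → U.relIndex (S : Subgroup G) ≤ 2 → ∀ x ∈ R,
      x ∈ centralizer (U : Set G) → ∀ s ∈ S, s ∉ U → s * x * s⁻¹ = x⁻¹ → x ∈ M) : R ≤ M := by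
  haveI : Fact (Nat.Prime 2) := ⟨Nat.prime_two⟩
  rw [Cfsg.Agent.S1324.result 2 (S : Subgroup G) R (elemAb hL le_rfl) (by simpa using h4)
    (fun h => (Nat.not_even_iff_odd.2 hR) (even_iff_two_dvd.2 h)) hn]
  refine iSup_le fun U => ?_
  by_cases hUS : (S : Subgroup G) ≤ U.1
  · exact (inf_le_inf_left _ (centralizer_le hUS)).trans hCS
  obtain ⟨s, hs, hsU⟩ := SetLike.not_le_iff_exists.1 hUS
  set K := R ⊓ centralizer (U.1 : Set G) with hK
  have hKodd : Odd (Nat.card K) := hR.of_dvd_nat (card_dvd_of_le inf_le_left)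
  have hsK : s ∈ normalizer (K : Set G) := by
    refine inf_normalizer_le_normalizer_inf ⟨hn hs, ?_⟩
    refine Cfsg.Lib.Thompson.normalizer_le_normalizer_centralizer _ (centralizer_le_normalizer _ ?_)
    exact mem_centralizer_iff.2 fun u hu => comm_S hL (U.2.1 hu) hs
  intro x hx
  obtain ⟨w, hw, i, hi, hws, his, rfl⟩ :=
    Cfsg.Lib.GW.Mixed.Invol.decomp (hL.sq s hs) hKodd hsK hx
  refine M.mul_mem (hCS ⟨hw.1, mem_centralizer_iff.2 fun z hz => ?_⟩) (hp U.1 U.2.1 U.2.2 i hi.1 hi.2 s hs hsU his)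
  by_cases hzU : z ∈ U.1
  · exact mem_centralizer_iff.1 hw.2 z hzU
  · have h := mem_centralizer_iff.1 hw.2 _ (mul_mem_hyperplane hL U.2.2 hs hz hsU hzU)
    calc z * w = s⁻¹ * (s * z * w) := by group
      _ = s⁻¹ * (w * (s * z)) := by rw [h]
      _ = s⁻¹ * (w * s) * z := by group
      _ = w * z := by rw [← hws]; group

end Cfsg.Lib.Walter.Big
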