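import Cfsg.Agent.Walter.Big.Signalizer
import Cfsg.Agent.Components.Misc.Kieler

/-!
Walter's theorem, branch of large rank, trivial closure: the terminal groups `X = ⟨(S ∩ L)^{C(Z_L)}⟩` commute
pairwise, so the normaliser of their join is proper and contains the centralisers of the `Z_L`.
-/

set_option autoImplicit false
set_option linter.unusedSectionVars false
set_option linter.style.haveILetI false

namespace Cfsg.Lib.Walter.Big

open Subgroup Cfsg.Lib.Components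
open scoped commutatorElement

universe u

variable {G : Type u} [Group G] [Finite G] {S : Sylow 2 G}

/-- the normal closure of `V` in `C(Z)` -/
def Xof (Z V : Subgroup G) : Subgroup G :=
  closure {x | ∃ g ∈ centralizer (Z : Set G), ∃ v ∈ V, g * v * g⁻¹ = x}

theorem V_le_Xof (Z V : Subgroup G) : V ≤ Xof Z V := fun v hv =>
  subset_closure ⟨1, one_mem _, v, hv, by group⟩

theorem cent_le_normalizer_Xof (Z V : Subgroup G) : centralizer (Z : Set G) ≤ normalizer (Xof Z V : Set G) := by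
  intro g hg
  rw [mem_normalizer_iff_map_conj_eq]
  refine Subgroup.eq_of_le_of_card_ge ?_ (card_map_of_injective (MulAut.conj g).injective).ge
  rw [Xof, MonoidHom.map_closure, closure_le]
  rintro _ ⟨_, ⟨h, hh, v, hv, rfl⟩, rfl⟩
  refine subset_closure ⟨g * h, mul_mem hg hh, v, hv, ?_⟩
  show g * h * v * (g * h)⁻¹ = g * (h * v * h⁻¹) * g⁻¹
  group

theorem map_Xof (Z V : Subgroup G) (g : G) :
    (Xof Z V).map (MulAut.conj g).toMonoidHom =
      Xof (Z.map (MulAut.conj g).toMonoidHom) (V.map (MulAut.conj g).toMonoidHom) := by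
  rw [Xof, Xof, MonoidHom.map_closure]
  congr 1
  ext x
  constructor
  · rintro ⟨_, ⟨h, hh, v, hv, rfl⟩, rfl⟩
    refine ⟨g * h * g⁻¹, mem_centralizer_iff.2 ?_, g * v * g⁻¹, ⟨v, hv, rfl⟩, ?_⟩
    · rintro _ ⟨z, hz, rfl⟩
      show g * z * g⁻¹ * (g * h * g⁻¹) = g * h * g⁻¹ * (g * z * g⁻¹)
      calc g * z * g⁻¹ * (g * h * g⁻¹) = g * (z * h) * g⁻¹ := by group
        _ = g * (h * z) * g⁻¹ := by rw [mem_centralizer_iff.1 hh z hz]
        _ = _ := by group
    · show g * h * g⁻¹ * (g * v * g⁻¹) * (g * h * g⁻¹)⁻¹ = g * (h * v * h⁻¹) * g⁻¹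
      group
  · rintro ⟨h, hh, _, ⟨v, hv, rfl⟩, rfl⟩
    refine ⟨g⁻¹ * h * g * v * (g⁻¹ * h * g)⁻¹, ⟨g⁻¹ * h * g, mem_centralizer_iff.2 fun z hz => ?_, v, hv, rfl⟩, ?_⟩
    · have h1 := mem_centralizer_iff.1 hh _ (mem_map_of_mem (MulAut.conj g).toMonoidHom hz)
      change g * z * g⁻¹ * h = h * (g * z * g⁻¹) at h1
      calc z * (g⁻¹ * h * g) = g⁻¹ * (g * z * g⁻¹ * h) * g := by group
        _ = g⁻¹ * (h * (g * z * g⁻¹)) * g := by rw [h1]
        _ = _ := by group
    · show g * (g⁻¹ * h * g * v * (g⁻¹ * h * g)⁻¹) * g⁻¹ = h * (g * v * g⁻¹) * h⁻¹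
      group

/-- the group attached to a component -/
abbrev XL (S : Sylow 2 G) (L : Subgroup G) : Subgroup G :=
  Xof (ZL (S : Subgroup G) L) ((S : Subgroup G) ⊓ L)

section facts

variable (hL : Local S) {t : G} {L : Subgroup G} (htS : t ∈ S) (ht : orderOf t = 2) (hc : IsComp t L)
include hL htS ht hc

theorem cent_ZL_le : centralizer (ZL (S : Subgroup G) L : Set G) ≤ centralizer ({t} : Set G) :=
  fun _ hg => cent_singleton_of_mem hg (hL.mem_ZL htS ht hc)

theorem cent_ZL_normalizes : centralizer (ZL (S : Subgroup G) L : Set G) ≤ normalizer (L : Set G) := by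
  intro g hg
  refine mem_normalizer_comp hL htS ht hc (cent_ZL_le hL htS ht hc hg) fun L' hc' hne => ?_
  obtain ⟨u, hu, hu1⟩ := (bot_or_exists_ne_one ((S : Subgroup G) ⊓ L')).resolve_left (fun e => by
    have := four_le hL htS ht hc'
    rw [e, card_bot] at this
    omega)
  exact ⟨u, hu, hu1, (mem_centralizer_iff.1 hg u (hL.other htS ht hc hc' (Ne.symm hne) hu)).symm⟩

theorem XL_le_L : XL S L ≤ L := by
  refine (closure_le _).2 ?_
  rintro _ ⟨g, hg, v, hv, rfl⟩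
  exact (mem_normalizer_iff.1 (cent_ZL_normalizes hL htS ht hc hg) v).1 hv.2

theorem XL_le_cent : XL S L ≤ centralizer (ZL (S : Subgroup G) L : Set G) := by
  refine (closure_le _).2 ?_
  rintro _ ⟨g, hg, v, hv, rfl⟩
  refine mul_mem (mul_mem hg (mem_centralizer_iff.2 fun z hz => ?_)) (inv_mem hg)
  exact comm_S hL hz.1 hv.1

/-- Frattini -/
theorem exists_factor {g : G} (hg : g ∈ centralizer (ZL (S : Subgroup G) L : Set G)) :
    ∃ h ∈ XL S L, h⁻¹ * g ∈ normalizer ((S : Subgroup G) : Set G) ∧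
      ∀ v, v ∈ (S : Subgroup G) ⊓ L → (h⁻¹ * g) * v * (h⁻¹ * g)⁻¹ ∈ (S : Subgroup G) ⊓ L := by
  haveI : Fact (Nat.Prime 2) := ⟨Nat.prime_two⟩
  set V := (S : Subgroup G) ⊓ L with hV
  set X := XL S L
  set C := centralizer ({t} : Set G) with hC
  have hsn : (L.subgroupOf C).IsSubnormal := hc.2.1
  obtain ⟨TL, hTL⟩ := Cfsg.Lib.Kieler.exists_sylow_of_subnormal (S.subtype (S_le_cent hL htS)) hsn
  have hVL : ¬ 2 ∣ V.relIndex L := by
    have h1 := TL.not_dvd_index
    rw [hTL] at h1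
    change ¬ 2 ∣ ((S : Subgroup G).subgroupOf C).relIndex (L.subgroupOf C) at h1
    rw [relIndex_subgroupOf hc.1] at h1
    rwa [hV, inf_relIndex_right]
  have hVX' : V ≤ X := V_le_Xof _ _
  have hVX : ¬ 2 ∣ V.relIndex X := fun h => hVL (h.trans
    ⟨X.relIndex L, (relIndex_mul_relIndex V X L hVX' (XL_le_L hL htS ht hc)).symm⟩)
  have hVp : IsPGroup 2 V := S.2.to_le inf_le_left
  let P : Sylow 2 X := hVp.comap_subtype.toSylow hVX
  have hgX : g ∈ normalizer (X : Set G) := cent_le_normalizer_Xof _ _ hg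
  set V' := V.map (MulAut.conj g).toMonoidHom with hV'
  have hV'X : V' ≤ X := by
    rintro _ ⟨v, hv, rfl⟩
    exact (mem_normalizer_iff.1 hgX v).1 (hVX' hv)
  have hV'p : IsPGroup 2 (V'.subgroupOf X) := (hVp.map _).comap_subtype
  obtain ⟨Q, hQ⟩ := hV'p.exists_le_sylow
  obtain ⟨h, hh⟩ := MulAction.exists_smul_eq X P Q
  refine ⟨h, h.2, ?_⟩
  have hstab : ∀ v, v ∈ V → ((h : G)⁻¹ * g) * v * ((h : G)⁻¹ * g)⁻¹ ∈ V := by
    intro v hv
    have h1 : (⟨g * v * g⁻¹, hV'X ⟨v, hv, rfl⟩⟩ : X) ∈ (Q : Subgroup X) := hQ ⟨v, hv, rfl⟩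
    rw [← hh] at h1
    obtain ⟨w, hw, hwe⟩ := h1
    have h2 : (h : G) * w * (h : G)⁻¹ = g * v * g⁻¹ := congrArg Subtype.val hwe
    rw [show ((h : G)⁻¹ * g) * v * ((h : G)⁻¹ * g)⁻¹ = (h : G)⁻¹ * (g * v * g⁻¹) * h by group, ← h2,
      show (h : G)⁻¹ * ((h : G) * w * (h : G)⁻¹) * h = w by group]
    exact hw
  refine ⟨Cfsg.Lib.ZStarApps.mem_normalizer_of_maps fun s hs => ?_, hstab⟩
  have hn : (h : G)⁻¹ * g ∈ centralizer (ZL (S : Subgroup G) L : Set G) :=
    mul_mem (inv_mem (XL_le_cent hL htS ht hc h.2)) hg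
  obtain ⟨hd, hsp⟩ := hL.split htS ht hc
  have hnorm : V ≤ normalizer (ZL (S : Subgroup G) L : Set G) := fun v hv =>
    centralizer_le_normalizer _ (mem_centralizer_iff.2 fun z hz => comm_S hL hz.1 hv.1)
  have hs' : s ∈ ZL (S : Subgroup G) L ⊔ V := by rw [hV, hsp]; exact hs
  obtain ⟨k, hk, z, hz, rfl⟩ := (Cfsg.Lib.Coprime.mem_sup_of_le_normalizer' hnorm).1 hs'
  rw [show ((h : G)⁻¹ * g) * (k * z) * ((h : G)⁻¹ * g)⁻¹ =
    ((h : G)⁻¹ * g) * k * ((h : G)⁻¹ * g)⁻¹ * (((h : G)⁻¹ * g) * z * ((h : G)⁻¹ * g)⁻¹) by group,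
    ← mem_centralizer_iff.1 hn z hz, mul_inv_cancel_right]
  exact (S : Subgroup G).mul_mem (hstab k hk).1 hz.1

/-- `X` is generated by the conjugates of `S ∩ L` under its own elements -/
theorem XL_eq : XL S L = closure {x | ∃ h ∈ XL S L, ∃ v ∈ (S : Subgroup G) ⊓ L, h * v * h⁻¹ = x} := by
  refine le_antisymm ((closure_le _).2 ?_) ((closure_le _).2 ?_)
  · rintro _ ⟨g, hg, v, hv, rfl⟩
    obtain ⟨h, hh, -, hst⟩ := exists_factor hL htS ht hc hg
    exact subset_closure ⟨h, hh, _, hst v hv, by group⟩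
  · rintro _ ⟨h, hh, v, hv, rfl⟩
    exact mul_mem (mul_mem hh (V_le_Xof _ _ hv)) (inv_mem hh)

end facts

/-- `Δ` of every subgroup of rank three is trivial -/
abbrev DeltaTrivial (S : Sylow 2 G) : Prop :=
  ∀ B : Subgroup G, B ≤ (S : Subgroup G) → 8 ≤ Nat.card B → Cfsg.signalizerDelta 2 B = ⊥

/-- with trivial closure the cores of four-groups are centralised by `S` -/
theorem delta_le_cent (hL : Local S) (hΔ : DeltaTrivial S) (h16 : 16 ≤ Nat.card ↥(S : Subgroup G))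
    {Y : Subgroup G} (hY : Y ≤ (S : Subgroup G)) (hY4 : 4 ≤ Nat.card Y) :
    Cfsg.signalizerDelta 2 Y ≤ centralizer ((S : Subgroup G) : Set G) := by
  haveI : Fact (Nat.Prime 2) := ⟨Nat.prime_two⟩
  have hne : Y ≠ ⊥ := fun e => by rw [e, card_bot] at hY4; omega
  obtain ⟨y₀, hy₀, hy₀1⟩ := (bot_or_exists_ne_one Y).resolve_left hne
  refine le_of_pieces hL (by omega) (Nat.coprime_two_right.1 (signalizerDelta_coprime hne))
    (fun s hs => delta_normalized (mem_centralizer_iff.2 fun b hb => comm_S hL (hY hb) hs)) inf_le_right ?_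
  intro U hU hrel x hx hxU s hs hsU hsx
  have hmem := mem_signalizerDelta.1 hx
  have hxo : Odd (orderOf x) := (odd_core y₀).of_dvd_nat (Subgroup.orderOf_dvd_natCard _ (hmem y₀ hy₀ hy₀1))
  suffices hx1 : x = 1 by rw [hx1]; exact one_mem _
  by_contra hx1
  have hYU : Y ≤ U := by
    intro y hy
    by_contra hyU
    have hy1 : y ≠ 1 := fun e => hyU (e ▸ one_mem _)
    exact hx1 (eq_one_of_inverted_fixed hxo (inverts_of_not_mem hL hrel hxU hs hsx hsU (hY hy) hyU)
      (mem_centralizer_singleton_iff.1 (centralizerPPrimeCore_le_centralizer y (hmem y hy hy1))).symm)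
  have hall : ∀ b ∈ U, b ≠ 1 → x ∈ Oc b := by
    intro b hb hb1
    refine (bad_comp hL hU hrel hxo hxU hs hsx hsU (Y := (Y : Set G)) ⟨y₀, hy₀, hY hy₀, hy₀1⟩
      (fun y hy _ hy1 => hmem y hy hy1) hb hb1).resolve_right ?_
    rintro ⟨L, hc, hav, h4, hZU⟩
    set Z := ZL (S : Subgroup G) L with hZ
    have hinj : Function.Injective (fun q : ↥Z × ↥Y => (⟨(q.1 : G) * q.2,
        mul_mem (hZU q.1.2) (hYU q.2.2)⟩ : ↥U)) := by
      rintro ⟨z, y⟩ ⟨z', y'⟩ h
      have h1 : (z : G) * y = z' * y' := congrArg Subtype.val h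
      have h2 : (y : G) * (y' : G)⁻¹ = (z : G)⁻¹ * z' := by
        calc (y : G) * (y' : G)⁻¹ = (z : G)⁻¹ * ((z : G) * y) * (y' : G)⁻¹ := by group
          _ = _ := by rw [h1]; group
      have h3 : (y : G) * (y' : G)⁻¹ = 1 := by
        by_contra hne'
        exact hav _ (Y.mul_mem y.2 (Y.inv_mem y'.2)) (hY (Y.mul_mem y.2 (Y.inv_mem y'.2))) hne'
          (h2 ▸ Z.mul_mem (Z.inv_mem z.2) z'.2)
      rw [h3, eq_comm, inv_mul_eq_one] at h2
      exact Prod.ext (Subtype.ext h2) (Subtype.ext (mul_inv_eq_one.1 h3))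
    have hcard := Nat.card_le_card_of_injective _ hinj
    rw [Nat.card_prod] at hcard
    have hsplit := card_split hL (hU hb) (ord_two hL (hU hb) hb1) hc
    rw [h4, ← hZ] at hsplit
    have h5 : Nat.card ↥(S : Subgroup G) ≤ Nat.card U :=
      hsplit.le.trans ((Nat.mul_le_mul_left _ hY4).trans hcard)
    exact hsU ((Subgroup.eq_of_le_of_card_ge hU h5).symm ▸ hs)
  have h8 : 8 ≤ Nat.card U := by
    have h := Cfsg.Lib.KBal.card_mul_relIndex' hU
    have : Nat.card U * U.relIndex (S : Subgroup G) ≤ Nat.card U * 2 := Nat.mul_le_mul_left _ hrel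
    omega
  have h1 : x ∈ Cfsg.signalizerDelta 2 U := mem_signalizerDelta.2 hall
  rw [hΔ U hU h8, mem_bot] at h1
  exact hx1 h1

/-- terminal pairs -/
structure Term (S : Sylow 2 G) (t : G) (L : Subgroup G) : Prop where
  mem : t ∈ S
  ord : orderOf t = 2
  comp : IsComp t L
  min : ∀ b K, b ∈ S → orderOf b = 2 → IsComp b K → ZL (S : Subgroup G) K ≤ ZL (S : Subgroup G) L →
    ZL (S : Subgroup G) K = ZL (S : Subgroup G) L

/-- every component lies over a terminal one -/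
theorem exists_term {t : G} {L : Subgroup G} (htS : t ∈ S) (ht : orderOf t = 2) (hc : IsComp t L) :
    ∃ t' L', Term S t' L' ∧ ZL (S : Subgroup G) L' ≤ ZL (S : Subgroup G) L := by
  obtain ⟨⟨t', L'⟩, ⟨h1, h2, h3, h4⟩, hmin⟩ := Set.exists_min_image
    {q : G × Subgroup G | q.1 ∈ S ∧ orderOf q.1 = 2 ∧ IsComp q.1 q.2 ∧ ZL (S : Subgroup G) q.2 ≤ ZL (S : Subgroup G) L}
    (fun q => Nat.card ↥(ZL (S : Subgroup G) q.2)) (Set.toFinite _) ⟨(t, L), htS, ht, hc, le_rfl⟩
  refine ⟨t', L', ⟨h1, h2, h3, fun b K hb hbo hK hle => ?_⟩, h4⟩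
  exact Subgroup.eq_of_le_of_card_ge hle (hmin (b, K) ⟨hb, hbo, hK, hle.trans h4⟩)

/-- a terminal pair reappears in the centraliser of every involution of `Z_L` -/
theorem Term.same (hL : Local S) {t : G} {L : Subgroup G} (T : Term S t L) {b : G}
    (hb : b ∈ ZL (S : Subgroup G) L) (hb1 : b ≠ 1) :
    ∃ K, IsComp b K ∧ ZL (S : Subgroup G) K = ZL (S : Subgroup G) L ∧
      (S : Subgroup G) ⊓ K = (S : Subgroup G) ⊓ L := by
  obtain ⟨K, hK, hZ, hV, -⟩ := hL.lift T.mem T.ord T.comp hb hb1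
  have hZe := T.min b K hb.1 (ord_two hL hb.1 hb1) hK hZ
  refine ⟨K, hK, hZe, (Subgroup.eq_of_le_of_card_ge hV ?_).symm⟩
  have h1 := card_split hL hb.1 (ord_two hL hb.1 hb1) hK
  have h2 := card_split hL T.mem T.ord T.comp
  rw [hZe, h2] at h1
  exact (Nat.eq_of_mul_eq_mul_left Nat.card_pos h1).ge

/-- terminal groups of different pairs commute -/
theorem Term.commute (hL : Local S) (hΔ : DeltaTrivial S)
    (hbig : ∀ {t L}, t ∈ S → orderOf t = 2 → IsComp t L →
      4 * Nat.card ↥((S : Subgroup G) ⊓ L) ^ 2 ≤ Nat.card ↥(S : Subgroup G))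
    {t t' : G} {L L' : Subgroup G} (T : Term S t L) (T' : Term S t' L')
    (hne : XL S L ≠ XL S L') : ∀ x ∈ XL S L, ∀ x' ∈ XL S L', x * x' = x' * x := by
  haveI : Fact (Nat.Prime 2) := ⟨Nat.prime_two⟩
  set V := (S : Subgroup G) ⊓ L with hV
  set V' := (S : Subgroup G) ⊓ L' with hV'
  set Z := ZL (S : Subgroup G) L with hZ
  set Z' := ZL (S : Subgroup G) L' with hZ'
  set Y := Z ⊓ Z' with hY
  have hY4 : 4 ≤ Nat.card Y := by
    have h1 := card_split hL T.mem T.ord T.comp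
    have h2 := card_split hL T'.mem T'.ord T'.comp
    have b1 := hbig T.mem T.ord T.comp
    have b2 := hbig T'.mem T'.ord T'.comp
    rw [← hV, ← hZ] at h1
    rw [← hV', ← hZ'] at h2
    have h3 := Cfsg.Lib.KBal.card_mul_relIndex' (A := Z) (B := Y) inf_le_left
    have h4 : Y.relIndex Z ≤ Nat.card V' := by
      rw [hY, inf_relIndex_left]
      have h5 := Cfsg.Lib.KBal.card_mul_relIndex' (A := (S : Subgroup G)) (B := Z') (ZL_le L')
      have h6 : Z'.relIndex (S : Subgroup G) = Nat.card V' :=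
        Nat.eq_of_mul_eq_mul_left Nat.card_pos (h5.trans h2)
      rw [← h6]
      exact relIndex_le_of_le_right (ZL_le L) index_ne_zero_of_finite
    have h7 : Nat.card Z ≤ Nat.card Y * Nat.card V' := h3 ▸ Nat.mul_le_mul_left _ h4
    by_contra hlt
    have hVp : 0 < Nat.card V := Nat.card_pos
    have hYp : Nat.card Y ≤ 3 := by omega
    have h8 : Nat.card ↥(S : Subgroup G) ≤ 3 * Nat.card V' * Nat.card V := by
      rw [h1]; exact Nat.mul_le_mul_right _ (h7.trans (Nat.mul_le_mul_right _ hYp))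
    have hV4 := four_le hL T'.mem T'.ord T'.comp
    rw [← hV'] at hV4
    rcases le_total (Nat.card V) (Nat.card V') with h | h <;> nlinarith
  set D := Cfsg.signalizerDelta 2 Y with hD
  have hS16 : 16 ≤ Nat.card ↥(S : Subgroup G) := by
    have b1 := hbig T.mem T.ord T.comp
    have := four_le hL T.mem T.ord T.comp
    nlinarith
  have hDc : D ≤ centralizer ((S : Subgroup G) : Set G) :=
    delta_le_cent hL hΔ hS16 (inf_le_left.trans (ZL_le L)) hY4
  have hXY : XL S L ≤ centralizer (Y : Set G) :=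
    (XL_le_cent hL T.mem T.ord T.comp).trans (centralizer_le inf_le_left)
  have hX'Y : XL S L' ≤ centralizer (Y : Set G) :=
    (XL_le_cent hL T'.mem T'.ord T'.comp).trans (centralizer_le inf_le_right)
  -- commutators land in `D`
  have hcom : ∀ x ∈ XL S L, ∀ x' ∈ XL S L', ⁅x, x'⁆ ∈ D := by
    intro x hx x' hx'
    refine mem_signalizerDelta.2 fun b hb hb1 => ?_
    obtain ⟨K, hK, hKZ, hKV⟩ := T.same hL hb.1 hb1
    obtain ⟨K', hK', hKZ', hKV'⟩ := T'.same hL hb.2 hb1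
    have hKK : K ≠ K' := by
      rintro rfl
      exact hne (by simp only [XL, ← hKZ, ← hKV, ← hKZ', ← hKV'])
    have hbo := ord_two hL hb.1.1 hb1
    have hxK : x ∈ K := XL_le_L hL hb.1.1 hbo hK (by
      simp only [XL, hKZ, hKV]; exact hx)
    have hx'K : x' ∈ K' := XL_le_L hL hb.1.1 hbo hK' (by
      simp only [XL, hKZ', hKV']; exact hx')
    exact ((PTerminal.mem_cent hK.1).1 (PTerminal.pcompOf_le_cent hK hK' hKK hx'K)).2 x hxK
  have hDn : ∀ h ∈ centralizer (Y : Set G), ∀ d ∈ D, h⁻¹ * d * h ∈ D := fun h hh d hd =>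
    (mem_normalizer_iff''.1 (delta_normalized hh) d).1 hd
  -- a conjugate of an element of `S` centralises `D`
  have hgenD : ∀ h ∈ centralizer (Y : Set G), ∀ v ∈ S, ∀ d ∈ D, d * (h * v * h⁻¹) = h * v * h⁻¹ * d := by
    intro h hh v hv d hd
    have h1 := mem_centralizer_iff.1 (hDc (hDn h hh d hd)) v hv
    calc d * (h * v * h⁻¹) = h * (h⁻¹ * d * h * v) * h⁻¹ := by group
      _ = h * (v * (h⁻¹ * d * h)) * h⁻¹ := by rw [h1]
      _ = _ := by group
  -- the kill
  have kill : ∀ {A A' W : Subgroup G}, A' = closure {x | ∃ h ∈ A', ∃ v ∈ W, h * v * h⁻¹ = x} →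
      A' ≤ centralizer (Y : Set G) → W ≤ (S : Subgroup G) → (∀ x ∈ A, ∀ x' ∈ A', ⁅x, x'⁆ ∈ D) →
      ∀ x ∈ A, (∀ w ∈ W, x * w = w * x) → ∀ x' ∈ A', x * x' = x' * x := by
    intro A A' W hgen hA'Y hWS hAA x hx hxW x' hx'
    have hle : A' ≤ centralizer ({x} : Set G) := by
      rw [hgen, closure_le]
      rintro _ ⟨h, hh, v, hv, rfl⟩
      refine mem_centralizer_singleton_iff.2 ?_
      set c := ⁅x, h⁆ with hc'
      have h1 : c * (h * v * h⁻¹) = h * v * h⁻¹ * c := hgenD h (hA'Y hh) v (hWS hv) c (hAA x hx h hh)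
      have hxv : x * v * x⁻¹ = v := by rw [hxW v hv, mul_inv_cancel_right]
      have h2 : x * (h * v * h⁻¹) * x⁻¹ = h * v * h⁻¹ := by
        calc x * (h * v * h⁻¹) * x⁻¹ = c * (h * (x * v * x⁻¹) * h⁻¹) * c⁻¹ := by
              rw [hc', commutatorElement_def]; group
          _ = _ := by rw [hxv, h1, mul_inv_cancel_right]
      exact (mul_inv_eq_iff_eq_mul.1 h2).symm
    exact (mem_centralizer_singleton_iff.1 (hle hx')).symm
  have hcom' : ∀ x' ∈ XL S L', ∀ x ∈ XL S L, ⁅x', x⁆ ∈ D := fun x' hx' x hx => by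
    rw [← commutatorElement_inv]; exact inv_mem (hcom x hx x' hx')
  -- step 1: `V` commutes with `X'` and `V'` with `X`
  have hVV : ∀ v ∈ V, ∀ v' ∈ V', v * v' = v' * v := fun v hv v' hv' => comm_S hL hv.1 hv'.1
  have h1' : ∀ v' ∈ V', ∀ x ∈ XL S L, v' * x = x * v' := fun v' hv' =>
    kill (XL_eq hL T.mem T.ord T.comp) hXY inf_le_left hcom' v' (V_le_Xof _ _ hv')
      fun v hv => (hVV v hv v' hv').symm
  intro x hx
  exact kill (XL_eq hL T'.mem T'.ord T'.comp) hX'Y inf_le_left hcom x hx fun v' hv' => (h1' v' hv' x hx).symm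

theorem map_ZL (L : Subgroup G) {g : G} (hg : g ∈ normalizer ((S : Subgroup G) : Set G)) :
    ZL (S : Subgroup G) (L.map (MulAut.conj g).toMonoidHom) =
      (ZL (S : Subgroup G) L).map (MulAut.conj g).toMonoidHom := by
  have hS := mem_normalizer_iff_map_conj_eq.1 hg
  have key : ∀ (a : G), a ∈ normalizer ((S : Subgroup G) : Set G) → ∀ y, y ∈ normalizer ((S : Subgroup G) : Set G) →
      a * y * a⁻¹ ∈ normalizer ((S : Subgroup G) : Set G) := fun a ha y hy => mul_mem (mul_mem ha hy) (inv_mem ha)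
  refine le_antisymm ?_ ?_
  · rintro z ⟨hz, hzc⟩
    refine ⟨g⁻¹ * z * g, ⟨(mem_normalizer_iff''.1 hg z).1 hz, mem_centralizer_iff.2 fun l hl => ?_⟩,
      by show g * (g⁻¹ * z * g) * g⁻¹ = z; group⟩
    have h := mem_centralizer_iff.1 hzc (g * l * g⁻¹) ⟨⟨l, hl.1, rfl⟩, key g hg l hl.2⟩
    calc l * (g⁻¹ * z * g) = g⁻¹ * (g * l * g⁻¹ * z) * g := by group
      _ = g⁻¹ * (z * (g * l * g⁻¹)) * g := by rw [h]
      _ = _ := by group
  · rintro _ ⟨z, ⟨hz, hzc⟩, rfl⟩
    refine ⟨(mem_normalizer_iff.1 hg z).1 hz, mem_centralizer_iff.2 ?_⟩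
    rintro _ ⟨⟨l, hl, rfl⟩, hln⟩
    have hl' : l ∈ normalizer ((S : Subgroup G) : Set G) := by
      have := key g⁻¹ (inv_mem hg) _ hln
      simpa [mul_assoc] using this
    show g * l * g⁻¹ * (g * z * g⁻¹) = g * z * g⁻¹ * (g * l * g⁻¹)
    calc g * l * g⁻¹ * (g * z * g⁻¹) = g * (l * z) * g⁻¹ := by group
      _ = g * (z * l) * g⁻¹ := by rw [mem_centralizer_iff.1 hzc l ⟨hl, hl'⟩]
      _ = _ := by group

theorem Term.conj (hL : Local S) {t : G} {L : Subgroup G} (T : Term S t L) {g : G}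
    (hg : g ∈ normalizer ((S : Subgroup G) : Set G)) :
    ∃ t' L', Term S t' L' ∧ (XL S L).map (MulAut.conj g).toMonoidHom = XL S L' := by
  haveI : Fact (Nat.Prime 2) := ⟨Nat.prime_two⟩
  have hord : ∀ a b : G, orderOf (a * b * a⁻¹) = orderOf b := fun a b => (MulAut.conj a).orderOf_eq b
  have hcent : ∀ a b : G, (centralizer ({b} : Set G)).map (MulAut.conj a).toMonoidHom =
      centralizer ({a * b * a⁻¹} : Set G) := fun a b => by
    ext x
    constructor
    · rintro ⟨y, hy, rfl⟩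
      have hy' := mem_centralizer_singleton_iff.1 hy
      refine mem_centralizer_singleton_iff.2 ?_
      show a * y * a⁻¹ * (a * b * a⁻¹) = a * b * a⁻¹ * (a * y * a⁻¹)
      rw [show a * y * a⁻¹ * (a * b * a⁻¹) = a * (y * b) * a⁻¹ by group, hy']
      group
    · intro hx
      have hx' := mem_centralizer_singleton_iff.1 hx
      refine ⟨a⁻¹ * x * a, mem_centralizer_singleton_iff.2 ?_, by show a * (a⁻¹ * x * a) * a⁻¹ = x; group⟩
      rw [show a⁻¹ * x * a * b = a⁻¹ * (x * (a * b * a⁻¹)) * a by group, hx']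
      group
  have hcomp : ∀ (a : G) {b : G} {K : Subgroup G}, IsComp b K →
      IsComp (a * b * a⁻¹) (K.map (MulAut.conj a).toMonoidHom) := fun a b K hK => by
    have h := PTerminal.pcompOf_conj hK a
    rwa [hcent] at h
  refine ⟨g * t * g⁻¹, L.map (MulAut.conj g).toMonoidHom, ⟨(mem_normalizer_iff.1 hg t).1 T.mem, ?_, hcomp g T.comp,
    fun b K hb hbo hK hle => ?_⟩, ?_⟩
  · rw [hord]; exact T.ord
  · have hgi : g⁻¹ ∈ normalizer ((S : Subgroup G) : Set G) := inv_mem hg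
    have h := T.min (g⁻¹ * b * g⁻¹⁻¹) (K.map (MulAut.conj g⁻¹).toMonoidHom) ((mem_normalizer_iff.1 hgi b).1 hb)
      (by rw [hord]; exact hbo) (hcomp g⁻¹ hK) (by
        rw [map_ZL K hgi, map_le_iff_le_comap]
        intro z hz
        obtain ⟨w, hw, rfl⟩ := (map_ZL L hg ▸ hle hz : z ∈ (ZL (S : Subgroup G) L).map (MulAut.conj g).toMonoidHom)
        show g⁻¹ * (g * w * g⁻¹) * g⁻¹⁻¹ ∈ ZL (S : Subgroup G) L
        simpa [mul_assoc] using hw)
    rw [map_ZL L hg, ← h, map_ZL K hgi, Subgroup.map_map]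
    convert (Subgroup.map_id (ZL (S : Subgroup G) K)).symm using 2
    ext y; simp [mul_assoc]
  · rw [XL, map_Xof]
    show Xof _ _ = Xof _ _
    have hS : (S : Subgroup G).map (MulAut.conj g).toMonoidHom = S := mem_normalizer_iff_map_conj_eq.1 hg
    rw [map_ZL L hg, Subgroup.map_inf _ _ _ (MulAut.conj g).injective, hS]

/-- **the trivial closure**: a proper subgroup containing `N(S)` and every `C(Z_L)` -/
theorem exists_overgroup (hL : Local S) (hΔ : DeltaTrivial S) (hm : Min G)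
    (hbig : ∀ {t L}, t ∈ S → orderOf t = 2 → IsComp t L →
      4 * Nat.card ↥((S : Subgroup G) ⊓ L) ^ 2 ≤ Nat.card ↥(S : Subgroup G))
    (hex : ∃ t L, t ∈ S ∧ orderOf t = 2 ∧ IsComp t L) :
    ∃ M : Subgroup G, M ≠ ⊤ ∧ normalizer ((S : Subgroup G) : Set G) ≤ M ∧
      ∀ {t L}, t ∈ S → orderOf t = 2 → IsComp t L → centralizer (ZL (S : Subgroup G) L : Set G) ≤ M := by
  haveI := hm.simple
  set E : Subgroup G := ⨆ q : {q : G × Subgroup G // Term S q.1 q.2}, XL S q.1.2 with hE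
  obtain ⟨t₀, L₀, ht₀, ho₀, hc₀⟩ := hex
  obtain ⟨t₁, L₁, T₁, -⟩ := exists_term ht₀ ho₀ hc₀
  set X₁ := XL S L₁
  have hX1 : X₁ ≠ ⊥ := fun e => by
    have h4 := four_le hL T₁.mem T₁.ord T₁.comp
    rw [show (S : Subgroup G) ⊓ L₁ = ⊥ from eq_bot_iff.2 ((V_le_Xof _ _).trans e.le), card_bot] at h4
    omega
  have hEne : E ≠ ⊥ := fun e => hX1 (eq_bot_iff.2
    ((le_iSup (fun q : {q : G × Subgroup G // Term S q.1 q.2} => XL S q.1.2) ⟨(t₁, L₁), T₁⟩).trans e.le))
  have hEtop : E ≠ ⊤ := by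
    intro e
    have hle : E ≤ normalizer (X₁ : Set G) := iSup_le fun q => by
      by_cases h : XL S q.1.2 = X₁
      · rw [h]; exact le_normalizer
      · exact fun x hx => centralizer_le_normalizer _ (mem_centralizer_iff.2 fun y hy =>
          Term.commute hL hΔ hbig T₁ q.2 (Ne.symm h) y hy x hx)
    rw [e, top_le_iff, normalizer_eq_top_iff] at hle
    rcases hle.eq_bot_or_eq_top with h | h
    · exact hX1 h
    have hct := XL_le_cent hL T₁.mem T₁.ord T₁.comp
    have htop : centralizer (ZL (S : Subgroup G) L₁ : Set G) = ⊤ := top_le_iff.1 (h.ge.trans hct)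
    have htc : t₁ ∈ center G := mem_center_iff.2 fun g =>
      (mem_centralizer_iff.1 (htop.ge (mem_top g)) t₁ (hL.mem_ZL T₁.mem T₁.ord T₁.comp)).symm
    rcases (inferInstance : (center G).Normal).eq_bot_or_eq_top with hb | hc'
    · exact ne_one_of_ord T₁.ord (mem_bot.1 (hb ▸ htc))
    · exact hm.nab ⟨⟨fun x y => (mem_center_iff.1 (hc' ▸ mem_top x : x ∈ center G) y).symm⟩⟩
  refine ⟨normalizer (E : Set G), fun h => ?_, fun g hg => ?_, fun {t L} htS hto hc g hg => ?_⟩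
  · rcases (normalizer_eq_top_iff.1 h).eq_bot_or_eq_top with h' | h'
    · exact hEne h'
    · exact hEtop h'
  · rw [mem_normalizer_iff_map_conj_eq]
    refine Subgroup.eq_of_le_of_card_ge ?_ (card_map_of_injective (MulAut.conj g).injective).ge
    rw [hE, Subgroup.map_iSup]
    refine iSup_le fun q => ?_
    obtain ⟨t', L', T', e⟩ := q.2.conj hL hg
    exact e.le.trans (le_iSup (fun q : {q : G × Subgroup G // Term S q.1 q.2} => XL S q.1.2) ⟨(t', L'), T'⟩)
  · obtain ⟨t', L', T', hle⟩ := exists_term htS hto hc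
    obtain ⟨h, hh, hn, -⟩ := exists_factor hL T'.mem T'.ord T'.comp (centralizer_le hle hg)
    rw [show g = h * (h⁻¹ * g) by group]
    refine mul_mem (le_normalizer
      (le_iSup (fun q : {q : G × Subgroup G // Term S q.1 q.2} => XL S q.1.2) ⟨(t', L'), T'⟩ hh)) ?_
    rw [mem_normalizer_iff_map_conj_eq]
    refine Subgroup.eq_of_le_of_card_ge ?_ (card_map_of_injective (MulAut.conj _).injective).ge
    rw [hE, Subgroup.map_iSup]
    refine iSup_le fun q => ?_
    obtain ⟨t'', L'', T'', e⟩ := q.2.conj hL hn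
    exact e.le.trans (le_iSup (fun q : {q : G × Subgroup G // Term S q.1 q.2} => XL S q.1.2) ⟨(t'', L''), T''⟩)

end Cfsg.Lib.Walter.Big
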